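import Cfsg.Agent.Lib.HSRec.Basic

/-!
The actions of the Mathieu group on points and blocks, and subgroups of index 22 and 77.
-/

set_option autoImplicit false
set_option maxRecDepth 10000

namespace CfsgLib.HSRec

open Cfsg CfsgLib.CosetEnum CfsgLib.M24.PackChain CfsgLib.Steiner MulAction
open scoped Pointwise

attribute [local irreducible] twoV twoProg blkProg

noncomputable instance instPoints : MulAction ↥S0 (Fin 22) where
  smul g i := (act0_point g i).choose
  one_smul i := by
    refine vP_injective (((act0_point 1 i).choose_spec).symm.trans ?_)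
    rw [map_one]; rfl
  mul_smul g h i := by
    refine vP_injective (((act0_point (g * h) i).choose_spec).symm.trans ?_)
    rw [map_mul, Equiv.Perm.mul_apply, (act0_point h i).choose_spec]
    exact (act0_point g _).choose_spec

theorem vP_smul (g : ↥S0) (i : Fin 22) : act0 g (vP i) = vP (g • i) := (act0_point g i).choose_spec

noncomputable instance instBlocks : MulAction ↥S0 (Fin 77) where
  smul g j := (act0_block g j).choose
  one_smul j := by
    refine vB_injective (((act0_block 1 j).choose_spec).symm.trans ?_)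
    rw [map_one]; rfl
  mul_smul g h j := by
    refine vB_injective (((act0_block (g * h) j).choose_spec).symm.trans ?_)
    rw [map_mul, Equiv.Perm.mul_apply, (act0_block h j).choose_spec]
    exact (act0_block g _).choose_spec

theorem vB_smul (g : ↥S0) (j : Fin 77) : act0 g (vB j) = vB (g • j) := (act0_block g j).choose_spec

instance : IsPretransitive ↥S0 (Fin 22) := ⟨fun i i' => by
  obtain ⟨g, hg⟩ := pts_trans i i'
  exact ⟨g, vP_injective ((vP_smul g i).symm.trans hg)⟩⟩

instance : IsPretransitive ↥S0 (Fin 77) := ⟨fun j j' => by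
  obtain ⟨g, hg⟩ := blks_trans j j'
  exact ⟨g, vB_injective ((vB_smul g j).symm.trans hg)⟩⟩

theorem index_point (i : Fin 22) : (stabilizer ↥S0 i).index = 22 := by
  rw [index_stabilizer_of_transitive, Nat.card_eq_fintype_card, Fintype.card_fin]

theorem index_block (j : Fin 77) : (stabilizer ↥S0 j).index = 77 := by
  rw [index_stabilizer_of_transitive, Nat.card_eq_fintype_card, Fintype.card_fin]

/-- A small invariant set gives a subgroup of large index. -/
theorem cover_bound (L : Subgroup ↥S0) {S : Finset (Fin 22)} (hinv : ∀ g ∈ L, g • S = S) {m : ℕ}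
    (hm : m = 2 ∨ m = 3) (hS : m ≤ S.card) :
    Nat.choose 22 m ≤ L.index * Nat.choose S.card m := by
  classical
  let img : ↥S0 ⧸ L → Finset (Fin 22) := Quotient.lift (fun g : ↥S0 => g • S) fun a b h => by
    have hab : a⁻¹ * b ∈ L := QuotientGroup.leftRel_apply.1 h
    conv_lhs => rw [← hinv _ hab]
    rw [mul_smul, smul_inv_smul]
  have : Fintype (↥S0 ⧸ L) := Fintype.ofFinite _
  have hsub : (Finset.univ : Finset (Fin 22)).powersetCard m ⊆
      (Finset.univ.image img).biUnion fun T => T.powersetCard m := by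
    intro A hA
    rw [Finset.mem_powersetCard] at hA
    obtain ⟨B, hB, hBc⟩ := Finset.exists_subset_card_eq hS
    obtain ⟨g, hg⟩ : ∃ g : ↥S0, ∀ i ∈ B, g • i ∈ A := by
      rcases hm with rfl | rfl
      · obtain ⟨g, hg⟩ := exists_extend hBc hA.2
        exact ⟨g, fun i hi => by obtain ⟨k, hk, e⟩ := hg i hi; rwa [vP_injective ((vP_smul g i).symm.trans e)]⟩
      · obtain ⟨g, hg⟩ := exists_triple hBc hA.2
        exact ⟨g, fun i hi => by obtain ⟨k, hk, e⟩ := hg i hi; rwa [vP_injective ((vP_smul g i).symm.trans e)]⟩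
    have hAB : g • B = A := Finset.eq_of_subset_of_card_le (fun x hx => by
      obtain ⟨i, hi, rfl⟩ := Finset.mem_smul_finset.1 hx
      exact hg i hi) (by rw [Finset.card_smul_finset, hA.2, hBc])
    rw [Finset.mem_biUnion]
    refine ⟨g • S, Finset.mem_image.2 ⟨QuotientGroup.mk g, Finset.mem_univ _, rfl⟩,
      Finset.mem_powersetCard.2 ⟨?_, hA.2⟩⟩
    rw [← hAB]; exact Finset.smul_finset_subset_smul_finset hB
  have h1 := Finset.card_le_card hsub
  rw [Finset.card_powersetCard, Finset.card_univ, Fintype.card_fin] at h1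
  refine h1.trans ((Finset.card_biUnion_le_card_mul _ _ (Nat.choose S.card m) fun T hT => ?_).trans
    (Nat.mul_le_mul_right _ ?_))
  · obtain ⟨q, -, rfl⟩ := Finset.mem_image.1 hT
    induction q using QuotientGroup.induction_on with
    | H g =>
      show ((g • S).powersetCard m).card ≤ _
      rw [Finset.card_powersetCard, Finset.card_smul_finset]
  · refine Finset.card_image_le.trans ?_
    rw [Finset.card_univ, ← Nat.card_eq_fintype_card]
    rfl

/-- the orbit of a point as a finite set -/
noncomputable def orbF (L : Subgroup ↥S0) (i : Fin 22) : Finset (Fin 22) :=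
  (Set.toFinite (orbit ↥L i)).toFinset

theorem orbF_inv (L : Subgroup ↥S0) (i : Fin 22) : ∀ g ∈ L, g • orbF L i = orbF L i := fun g hg => by
  refine Finset.eq_of_subset_of_card_le (fun x hx => ?_) (by rw [Finset.card_smul_finset])
  obtain ⟨y, hy, rfl⟩ := Finset.mem_smul_finset.1 hx
  rw [orbF, Set.Finite.mem_toFinset] at hy ⊢
  obtain ⟨l, rfl⟩ := hy
  exact ⟨⟨g, hg⟩ * l, mul_smul _ _ _⟩

theorem inv_compl {L : Subgroup ↥S0} {S : Finset (Fin 22)} (h : ∀ g ∈ L, g • S = S) :
    ∀ g ∈ L, g • Sᶜ = Sᶜ := fun g hg => by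
  refine Finset.eq_of_subset_of_card_le (fun x hx => ?_) (by rw [Finset.card_smul_finset])
  obtain ⟨y, hy, rfl⟩ := Finset.mem_smul_finset.1 hx
  rw [Finset.mem_compl] at hy ⊢
  intro hc
  rw [← h g hg] at hc
  exact hy ((Finset.smul_mem_smul_finset_iff g).1 hc)

theorem not_transitive {L : Subgroup ↥S0} (h : ¬ 22 ∣ Nat.card ↥L) (i : Fin 22) :
    orbF L i ≠ Finset.univ := by
  intro hu
  refine h ?_
  have h1 := MulAction.orbitProdStabilizerEquivGroup ↥L i
  have h2 := Nat.card_congr h1
  rw [Nat.card_prod] at h2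
  refine ⟨Nat.card (stabilizer ↥L i), h2.symm.trans (congrArg (· * _) ?_)⟩
  rw [Nat.card_coe_set_eq, Set.ncard_eq_toFinset_card _ (Set.toFinite _)]
  show (orbF L i).card = 22
  rw [hu]; rfl

/-- an element of prime order meeting an invariant set -/
theorem card_mod {p : ℕ} (hp : p.Prime) {x : ↥S0} (hx : x ^ p = 1) {b : ℕ}
    (hfix : (Finset.univ.filter fun i : Fin 22 => x • i = i).card ≤ b) (hb : b < p)
    {S : Finset (Fin 22)} (hS : x • S = S) : S.card % p ≤ b := by
  classical
  have := Fact.mk hp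
  set Z := Subgroup.zpowers x
  have hinv : ∀ z ∈ Z, z • S = S := fun z hz => by
    obtain ⟨k, rfl⟩ := Subgroup.mem_zpowers_iff.1 hz
    exact (mem_stabilizer_iff (G := ↥S0)).1 (zpow_mem (mem_stabilizer_iff.2 hS) k)
  letI act : MulAction ↥Z ↥S :=
    { smul := fun z i => ⟨(z : ↥S0) • (i : Fin 22), by
        have := Finset.smul_mem_smul_finset (a := (z : ↥S0)) i.2
        rwa [hinv _ z.2] at this⟩
      one_smul := fun i => Subtype.ext (one_smul ↥S0 (i : Fin 22))
      mul_smul := fun a c i => Subtype.ext (mul_smul (a : ↥S0) (c : ↥S0) (i : Fin 22)) }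
  have hpg : IsPGroup p ↥Z := fun z => ⟨1, by
    obtain ⟨k, hk⟩ := Subgroup.mem_zpowers_iff.1 z.2
    refine Subtype.ext ?_
    rw [pow_one, Subgroup.coe_pow, ← hk, ← zpow_natCast, ← zpow_mul, mul_comm, zpow_mul, zpow_natCast, hx,
      one_zpow]; rfl⟩
  have h := hpg.card_modEq_card_fixedPoints ↥S
  rw [Nat.card_eq_finsetCard] at h
  have hle : Nat.card (fixedPoints ↥Z ↥S) ≤ b := by
    refine le_trans ?_ hfix
    rw [← Nat.card_eq_finsetCard]
    refine Nat.card_le_card_of_injective (fun q => ⟨(q.1 : Fin 22), ?_⟩) fun q q' e => ?_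
    · simp only [Finset.mem_filter, Finset.mem_univ, true_and]
      exact congrArg Subtype.val (q.2 ⟨x, Subgroup.mem_zpowers x⟩)
    · have h' := congrArg Subtype.val e
      simp only at h'
      exact Subtype.ext (Subtype.ext h')
  rw [Nat.ModEq, Nat.mod_eq_of_lt (hle.trans_lt hb)] at h
  rw [h]; exact hle

theorem exists_syl : ∃ x y : ↥S0, (x ^ 7 = 1 ∧ x ≠ 1 ∧ (Finset.univ.filter fun i : Fin 22 => x • i = i).card ≤ 1) ∧
    y ^ 5 = 1 ∧ y ≠ 1 ∧ (Finset.univ.filter fun i : Fin 22 => y • i = i).card ≤ 2 := by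
  obtain ⟨a, ha⟩ := exists_fam syl_chk
  have key : ∀ (k : Fin sylP.length) (p : ℕ), 1 < p →
      ((List.range 100).all fun x => Nat.beq (itP (nth sylP k 0) p x) x) = true →
      ∀ b, ((List.range 22).filter fun i => Nat.beq (pk (nth sylP k 0) (77 + i)) (77 + i)).length ≤ b →
      b < 22 → a k ^ p = 1 ∧ a k ≠ 1 ∧ (Finset.univ.filter fun i : Fin 22 => a k • i = i).card ≤ b := by
    intro k p _ hit b hb hb22
    have hpow : ∀ n, ∀ x : Fin 100, (act0 (a k ^ n) x : ℕ) = itP (nth sylP k 0) n x := by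
      intro n
      induction n with
      | zero => intro x; rw [pow_zero, map_one]; rfl
      | succ n ih => intro x; rw [pow_succ', map_mul, Equiv.Perm.mul_apply, ha, ih]; rfl
    have hfix : (Finset.univ.filter fun i : Fin 22 => a k • i = i).card ≤ b := by
      refine le_trans ?_ hb
      rw [← List.toFinset_card_of_nodup (List.nodup_range.filter _)]
      refine Finset.card_le_card_of_injOn Fin.val (fun i hi => ?_) (Fin.val_injective.injOn)
      simp only [Finset.coe_filter, Finset.mem_univ, true_and, Set.mem_setOf_eq] at hi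
      simp only [List.coe_toFinset, Set.mem_setOf_eq, List.mem_filter, List.mem_range]
      refine ⟨i.2, ?_⟩
      rw [Nat.beq_eq, ← show (vP i).val = 77 + i.val from rfl, ← ha, vP_smul, hi]
    refine ⟨act0_ext fun x => ?_, fun h1 => ?_, hfix⟩
    · rw [hpow, map_one]
      have := List.all_eq_true.1 hit x (List.mem_range.2 x.2)
      rw [Nat.beq_eq] at this
      exact this
    · rw [h1] at hfix
      simp at hfix
      omega
  obtain ⟨h7, f7⟩ := seven_chk
  obtain ⟨h5, f5⟩ := five_chk
  exact ⟨a ⟨0, by decide⟩, a ⟨1, by decide⟩, key ⟨0, by decide⟩ 7 (by norm_num) h7 1 f7 (by norm_num),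
    key ⟨1, by decide⟩ 5 (by norm_num) h5 2 f5 (by norm_num)⟩

theorem not_sq_dvd : ¬ 7 ^ 2 ∣ 443520 ∧ ¬ 5 ^ 2 ∣ 443520 := by norm_num

/-- all elements of order `p` have small fixed sets when the Sylow subgroups have prime order -/
theorem card_mod_of_mem {p : ℕ} (hp : p.Prime) (hsq : ¬ p ^ 2 ∣ 443520) (hd : p ∣ 443520) {x : ↥S0}
    (hx : x ^ p = 1) (hx1 : x ≠ 1) {b : ℕ} (hb : b < p)
    (hfix : (Finset.univ.filter fun i : Fin 22 => x • i = i).card ≤ b) {L : Subgroup ↥S0}
    (hL : p ∣ Nat.card ↥L) {S : Finset (Fin 22)} (hS : ∀ g ∈ L, g • S = S) : S.card % p ≤ b := by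
  have := Fact.mk hp
  obtain ⟨y, hy⟩ := exists_prime_orderOf_dvd_card' p hL
  have hfac : (Nat.card ↥S0).factorization p = 1 := by
    rw [natCard_S0]
    have h1 := (hp.dvd_iff_one_le_factorization (by norm_num)).1 hd
    have h2 : ¬ 2 ≤ (443520 : ℕ).factorization p := fun h =>
      hsq ((hp.pow_dvd_iff_le_factorization (by norm_num)).2 h)
    omega
  have hox : orderOf x = p := orderOf_eq_prime hx hx1
  have hoy : orderOf (y : ↥S0) = p := by rw [Subgroup.orderOf_coe, hy]
  let Px : Sylow p ↥S0 := Sylow.ofCard (Subgroup.zpowers x) (by rw [Nat.card_zpowers, hox, hfac, pow_one])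
  let Py : Sylow p ↥S0 :=
    Sylow.ofCard (Subgroup.zpowers (y : ↥S0)) (by rw [Nat.card_zpowers, hoy, hfac, pow_one])
  obtain ⟨g, hg⟩ := exists_smul_eq ↥S0 Py Px
  have hxm : x ∈ (g • Py : Sylow p ↥S0).toSubgroup := by
    rw [hg]; exact Subgroup.mem_zpowers x
  rw [Sylow.coe_subgroup_smul, Subgroup.mem_pointwise_smul_iff_inv_smul_mem] at hxm
  obtain ⟨k, hk⟩ := Subgroup.mem_zpowers_iff.1 hxm
  have hxL : g⁻¹ * x * g ∈ L := by
    have e : g⁻¹ * x * g = (MulAut.conj g)⁻¹ • x := by simp [MulAut.smul_def, MulAut.conj_inv_apply]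
    rw [e, ← hk]
    exact L.zpow_mem y.2 k
  have hxS : x • (g • S) = g • S := by
    have := hS _ hxL
    calc x • (g • S) = g • ((g⁻¹ * x * g) • S) := by rw [← mul_smul, ← mul_smul]; congr 1; group
      _ = g • S := by rw [this]
  have := card_mod hp hx hfix hb hxS
  rwa [Finset.card_smul_finset] at this

/-- Subgroups of index 22 fix a point. -/
theorem index22 (L : Subgroup ↥S0) (hL : L.index = 22) : ∃ i : Fin 22, L = stabilizer ↥S0 i := by
  have hcard : Nat.card ↥L = 20160 := by
    have := L.card_mul_index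
    rw [hL, natCard_S0] at this; omega
  obtain ⟨x, y, ⟨hx, hx1, hxf⟩, hy, hy1, hyf⟩ := exists_syl
  have hsmall : ∀ S : Finset (Fin 22), (∀ g ∈ L, g • S = S) → S.card ≤ 11 → S.card = 0 ∨ S.card = 1 := by
    intro S hS h11
    have h7 := card_mod_of_mem (p := 7) (by norm_num) not_sq_dvd.1 (by norm_num) hx hx1 (by norm_num) hxf
      (by rw [hcard]; norm_num) hS
    have h5 := card_mod_of_mem (p := 5) (by norm_num) not_sq_dvd.2 (by norm_num) hy hy1 (by norm_num) hyf
      (by rw [hcard]; norm_num) hS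
    by_contra hc
    have h3 : S.card = 7 := by omega
    have := cover_bound L hS (Or.inr rfl) (by omega)
    rw [hL, h3] at this
    norm_num [Nat.choose] at this
  have hne : ∀ i, orbF L i ≠ Finset.univ := not_transitive (by rw [hcard]; norm_num)
  obtain ⟨i, hi⟩ : ∃ i : Fin 22, ∀ g ∈ L, g • i = i := by
    have h0 : (0 : Fin 22) ∈ orbF L 0 := by
      rw [orbF, Set.Finite.mem_toFinset]; exact mem_orbit_self _
    obtain ⟨S, hS, hS1⟩ : ∃ S : Finset (Fin 22), (∀ g ∈ L, g • S = S) ∧ S.card = 1 := by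
      rcases Nat.lt_or_ge 11 (orbF L 0).card with hlt | hle
      · refine ⟨_, inv_compl (orbF_inv L 0), (hsmall _ (inv_compl (orbF_inv L 0)) ?_).resolve_left fun e => ?_⟩
        · rw [Finset.card_compl, Fintype.card_fin]; omega
        · rw [Finset.card_eq_zero, Finset.compl_eq_empty_iff] at e
          exact hne 0 e
      · exact ⟨_, orbF_inv L 0, (hsmall _ (orbF_inv L 0) hle).resolve_left fun e => by
          rw [Finset.card_eq_zero] at e; rw [e] at h0; simp at h0⟩
    obtain ⟨i, rfl⟩ := Finset.card_eq_one.1 hS1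
    exact ⟨i, fun g hg => by simpa using hS g hg⟩
  exact ⟨i, Subgroup.eq_of_le_of_card_ge (fun g hg => hi g hg) (by
    have := (stabilizer ↥S0 i).card_mul_index
    rw [index_point, natCard_S0] at this; omega)⟩

theorem factorization_two : (443520 : ℕ).factorization 2 = 7 := by
  have h1 : 2 ^ 7 ∣ 443520 := by norm_num
  have h2 : ¬ 2 ^ 8 ∣ 443520 := by norm_num
  rw [Nat.prime_two.pow_dvd_iff_le_factorization (by norm_num)] at h1 h2
  omega

/-- A Sylow 2-subgroup with orbits of sizes 2, 4 and 16. -/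
theorem exists_two : ∃ (P : Sylow 2 ↥S0), ∀ S : Finset (Fin 22), (∀ g ∈ P, g • S = S) →
    ∀ O ∈ [orb2, orb4, orb16], (∀ i : Fin 22, i.val ∈ O → i ∈ S) ∨ (∀ i : Fin 22, i.val ∈ O → i ∉ S) := by
  classical
  obtain ⟨hlen, hnd, -, hid, hcl⟩ := two_closed
  obtain ⟨a, ha⟩ := exists_fam two_chk.1
  set K : Subgroup ↥S0 := Subgroup.closure (Set.range a)
  have hgood : ∀ i < twoV.length, ∃ g : ↥S0, g ∈ K ∧ ∀ x, (act0 g x : ℕ) = pk (nth twoV i 0) x := by
    intro i hi
    obtain ⟨g, hg, -⟩ := prog_good (φ := act0.comp K.subtype) (χ := 1) (by norm_num) twoProg twoP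
      (List.replicate twoP.length 0) (by simp) two_chk.2 (fun k hk => ⟨⟨a ⟨k, hk⟩,
        Subgroup.subset_closure ⟨_, rfl⟩⟩, fun x => ha ⟨k, hk⟩ x, by
        have : (List.replicate twoP.length 0).getD k 0 = 0 := by simp [List.getD_eq_getElem?_getD, hk]
        rw [this]; rfl⟩) i (by unfold twoV at hi; exact hi)
    exact ⟨g, g.2, fun x => by unfold twoV; exact hg x⟩
  choose el helK helv using fun i : Fin 128 => hgood i (hlen.symm ▸ i.2)
  let T : Finset ↥S0 := Finset.univ.image el
  have hinj : Function.Injective el := fun i j e => by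
    have hij : (twoV.map fun p => (List.range 100).map fun x => pk p x)[i.val]'(by
          rw [List.length_map, hlen]; exact i.2) =
        (twoV.map fun p => (List.range 100).map fun x => pk p x)[j.val]'(by
          rw [List.length_map, hlen]; exact j.2) := by
      simp only [List.getElem_map]
      refine List.map_congr_left fun x hx => ?_
      have h1 := helv i ⟨x, List.mem_range.1 hx⟩
      rw [e, helv j ⟨x, List.mem_range.1 hx⟩, nth_eq, nth_eq, List.getD_eq_getElem _ _ (hlen.symm ▸ j.2),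
        List.getD_eq_getElem _ _ (hlen.symm ▸ i.2)] at h1
      exact h1.symm
    exact Fin.ext (hnd.getElem_inj_iff.1 hij)
  have hone : (1 : ↥S0) ∈ T := by
    refine Finset.mem_image.2 ⟨⟨0, by norm_num⟩, Finset.mem_univ _, act0_ext fun x => ?_⟩
    rw [helv, map_one]
    have h0 := List.all_eq_true.1 hid x (List.mem_range.2 x.2)
    rw [Nat.beq_eq] at h0
    have e : nth twoV 0 0 = nth twoP 0 0 := by
      unfold twoV
      rw [nth_eq, nth_eq, vals, List.getD_append _ _ _ _ two_len.2]
    rw [e]; exact h0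
  have hT : ∀ g ∈ K, g ∈ T := by
    intro g hg
    have hg' : g ∈ Submonoid.closure (Set.range a) := by
      rw [← Subgroup.closure_toSubmonoid_of_finite]; exact hg
    induction hg' using Submonoid.closure_induction_right with
    | one => exact hone
    | mul_right x hx y hy ih =>
      have hxK : x ∈ K := Submonoid.closure_le.2 (fun s hs => Subgroup.subset_closure hs) hx
      obtain ⟨⟨k, hk⟩, rfl⟩ := hy
      obtain ⟨i, -, rfl⟩ := Finset.mem_image.1 (ih hxK)
      match k, hk with
      | 0, hk =>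
        refine Finset.mem_image.2 ⟨i, Finset.mem_univ _, act0_ext fun z => ?_⟩
        have h0 := List.all_eq_true.1 hid z (List.mem_range.2 z.2)
        rw [Nat.beq_eq] at h0
        rw [map_mul, Equiv.Perm.mul_apply]
        have e : act0 (a ⟨0, hk⟩) z = z := Fin.ext ((ha _ z).trans h0)
        rw [e]
      | k + 1, hk =>
        have h := List.all_eq_true.1 (List.all_eq_true.1 hcl k (List.mem_range.2 (by
          have := two_len.1; omega))) i (List.mem_range.2 i.2)
        simp only [strict_eq, Bool.and_eq_true, Nat.blt_eq] at h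
        obtain ⟨hlt, hcomp⟩ := h
        refine Finset.mem_image.2 ⟨⟨_, hlt⟩, Finset.mem_univ _, act0_ext fun z => ?_⟩
        have hz := allUp_spec hcomp z (Nat.zero_le _) (by have := z.2; omega)
        simp only [compAt, strict_eq, show ltB z 100 = true from ltB_iff.mpr z.2, pick_true, Nat.beq_eq] at hz
        rw [helv, map_mul, Equiv.Perm.mul_apply, helv, ha, hz]
  have hcard : Nat.card ↥K = 2 ^ (Nat.card ↥S0).factorization 2 := by
    rw [natCard_S0, factorization_two]
    have hTK : (T : Set ↥S0) = (K : Set ↥S0) := Set.eq_of_subset_of_subset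
      (fun g hg => by obtain ⟨i, -, rfl⟩ := Finset.mem_image.1 hg; exact helK i) hT
    rw [← SetLike.coe_sort_coe, ← hTK, Nat.card_coe_set_eq, Set.ncard_coe_finset,
      Finset.card_image_of_injective _ hinj]
    rfl
  refine ⟨Sylow.ofCard K hcard, fun S hS O hO => ?_⟩
  obtain ⟨o2, o4, o16, -⟩ := two_orbits
  have key : ∀ O : List ℕ, (O.all fun x => twoV.any fun p => Nat.beq (pk p (77 + O.headD 0)) (77 + x)) = true →
      O.headD 0 < 22 →
      (∀ i : Fin 22, i.val ∈ O → i ∈ S) ∨ (∀ i : Fin 22, i.val ∈ O → i ∉ S) := by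
    intro O hO hr
    let r : Fin 22 := ⟨O.headD 0, hr⟩
    have hmove : ∀ i : Fin 22, i.val ∈ O → ∃ g ∈ K, g • r = i := by
      intro i hi
      obtain ⟨p, hp, hpe⟩ := List.any_eq_true.1 (List.all_eq_true.1 hO _ hi)
      obtain ⟨n, hn, rfl⟩ := List.mem_iff_getElem.1 hp
      rw [Nat.beq_eq] at hpe
      refine ⟨el ⟨n, hlen ▸ hn⟩, helK _, vP_injective (Fin.ext ?_)⟩
      rw [← vP_smul, helv, nth_eq, List.getD_eq_getElem _ _ hn]
      exact hpe
    by_cases hrS : r ∈ S
    · refine Or.inl fun i hi => ?_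
      obtain ⟨g, hg, rfl⟩ := hmove i hi
      rw [← hS g hg]; exact Finset.smul_mem_smul_finset hrS
    · refine Or.inr fun i hi hiS => hrS ?_
      obtain ⟨g, hg, rfl⟩ := hmove i hi
      rwa [← hS g hg, Finset.smul_mem_smul_finset_iff] at hiS
  simp only [List.mem_cons, List.not_mem_nil, or_false] at hO
  rcases hO with rfl | rfl | rfl
  · exact key _ o2 (by decide)
  · exact key _ o4 (by decide)
  · exact key _ o16 (by decide)

/-- Subgroups of index 77 fix a block. -/
theorem index77 (L : Subgroup ↥S0) (hL : L.index = 77) : ∃ j : Fin 77, L = stabilizer ↥S0 j := by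
  classical
  have hcard : Nat.card ↥L = 5760 := by
    have := L.card_mul_index
    rw [hL, natCard_S0] at this; omega
  obtain ⟨P, hP⟩ := exists_two
  obtain ⟨Q⟩ : Nonempty (Sylow 2 ↥L) := inferInstance
  have hQ : Nat.card ↥((Q : Subgroup ↥L).map L.subtype) = 2 ^ (Nat.card ↥S0).factorization 2 := by
    rw [← Nat.card_congr ((Q : Subgroup ↥L).equivMapOfInjective _ L.subtype_injective).toEquiv,
      Q.card_eq_multiplicity, hcard, natCard_S0, factorization_two]
    have h1 : 2 ^ 7 ∣ 5760 := by norm_num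
    have h2 : ¬ 2 ^ 8 ∣ 5760 := by norm_num
    rw [Nat.prime_two.pow_dvd_iff_le_factorization (by norm_num)] at h1 h2
    congr 1; omega
  obtain ⟨g, hg⟩ := exists_smul_eq ↥S0 P (Sylow.ofCard _ hQ)
  have hPL : ∀ x ∈ P, g * x * g⁻¹ ∈ L := fun x hx => by
    have hm : g * x * g⁻¹ ∈ (g • P : Sylow 2 ↥S0).toSubgroup := by
      rw [Sylow.coe_subgroup_smul, Subgroup.mem_pointwise_smul_iff_inv_smul_mem]
      have e : (MulAut.conj g)⁻¹ • (g * x * g⁻¹) = x := by simp [MulAut.smul_def]; group
      rw [e]; exact hx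
    rw [hg] at hm
    obtain ⟨q, -, hq⟩ := hm
    rw [← hq]; exact q.2
  have hnt : ∀ i, orbF L i ≠ Finset.univ := not_transitive (by rw [hcard]; norm_num)
  obtain ⟨-, -, -, hpart, hl2, hl4, hnd, hlt⟩ := two_orbits
  have hset : ∀ (O : List ℕ), O.Nodup → (∀ x ∈ O, x < 22) →
      (Finset.univ.filter fun i : Fin 22 => i.val ∈ O).card = O.length := by
    intro O hO hlt
    rw [← List.toFinset_card_of_nodup hO]
    refine Finset.card_bij (fun i _ => i.val) (fun i hi => by simpa using hi)
      (fun i _ j _ e => Fin.ext e) fun x hx => ?_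
    rw [List.mem_toFinset] at hx
    exact ⟨⟨x, hlt x hx⟩, by simpa using hx, rfl⟩
  simp only [List.nodup_append, List.mem_append] at hnd hlt
  have c2 := hset orb2 hnd.1.1 fun x hx => hlt x (Or.inl (Or.inl hx))
  have c4 := hset orb4 hnd.1.2.1 fun x hx => hlt x (Or.inl (Or.inr hx))
  rw [hl2] at c2; rw [hl4] at c4
  set O2 := Finset.univ.filter fun i : Fin 22 => i.val ∈ orb2
  set O4 := Finset.univ.filter fun i : Fin 22 => i.val ∈ orb4
  set B0 := Finset.univ.filter fun i : Fin 22 => i.val ∈ orb2 ∨ i.val ∈ orb4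
  -- an invariant set is one of eight unions, and only the block survives
  have no2 : ∀ S : Finset (Fin 22), (∀ x ∈ L, x • S = S) → S.card ≠ 2 := fun S hS hc => by
    have := cover_bound L hS (Or.inl rfl) (le_of_eq hc.symm)
    rw [hL, hc] at this; norm_num [Nat.choose] at this
  have no4 : ∀ S : Finset (Fin 22), (∀ x ∈ L, x • S = S) → S.card ≠ 4 := fun S hS hc => by
    have := cover_bound L hS (Or.inr rfl) (by omega)
    rw [hL, hc] at this; norm_num [Nat.choose] at this
  obtain ⟨S, hS, hSB⟩ : ∃ S : Finset (Fin 22), (∀ x ∈ L, x • S = S) ∧ g⁻¹ • S = B0 := by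
    have h0 : (0 : Fin 22) ∈ orbF L 0 := by
      rw [orbF, Set.Finite.mem_toFinset]; exact mem_orbit_self _
    set T := g⁻¹ • orbF L 0 with hTdef
    have hTP : ∀ x ∈ P, x • T = T := fun x hx => by
      have := orbF_inv L 0 _ (hPL x hx)
      calc x • T = g⁻¹ • ((g * x * g⁻¹) • orbF L 0) := by
            rw [hTdef, ← mul_smul, ← mul_smul]; congr 1; group
        _ = T := by rw [this]
    have hTne : T ≠ Finset.univ := fun e => hnt 0 (Finset.eq_univ_of_card _ (by
      rw [← Finset.card_smul_finset g⁻¹, ← hTdef, e]; rfl))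
    have hTe : T ≠ ∅ := fun e => by
      have := congrArg Finset.card e
      rw [hTdef, Finset.card_smul_finset, Finset.card_empty, Finset.card_eq_zero] at this
      rw [this] at h0; simp at h0
    have hcompl : g⁻¹ • (orbF L 0)ᶜ = Tᶜ := by
      ext x
      rw [Finset.mem_inv_smul_finset_iff, Finset.mem_compl, Finset.mem_compl, hTdef,
        Finset.mem_inv_smul_finset_iff]
    have hI := orbF_inv L 0
    have hIc := inv_compl hI
    have q2 := hP T hTP orb2 (by simp)
    have q4 := hP T hTP orb4 (by simp)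
    have q16 := hP T hTP orb16 (by simp)
    have eqT : ∀ A : Finset (Fin 22), (∀ i : Fin 22, i ∈ T ↔ i ∈ A) → T = A := fun A h => Finset.ext h
    have cT : ∀ A, T = A → (orbF L 0).card = A.card := fun A h => by
      rw [← h, hTdef, Finset.card_smul_finset]
    have cTc : ∀ A, Tᶜ = A → (orbF L 0)ᶜ.card = A.card := fun A h => by
      rw [← h, ← hcompl, Finset.card_smul_finset]
    rcases q2 with a2 | a2 <;> rcases q4 with a4 | a4 <;> rcases q16 with a16 | a16
    · exfalso; exact hTne (Finset.eq_univ_of_forall fun i => by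
        rcases (hpart i).1 with h | h | h
        exacts [a2 i h, a4 i h, a16 i h])
    · exact ⟨_, hI, Finset.ext fun i => by
        rcases (hpart i).1 with h | h | h <;> simp only [B0, Finset.mem_filter, Finset.mem_univ, true_and]
        · exact iff_of_true (a2 i h) (Or.inl h)
        · exact iff_of_true (a4 i h) (Or.inr h)
        · exact iff_of_false (a16 i h) fun hh => by
            rcases hh with hh | hh
            exacts [hnd.2.2 _ (Or.inl hh) _ h rfl, hnd.2.2 _ (Or.inr hh) _ h rfl]⟩
    · exfalso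
      refine no4 _ hIc ((cTc O4 (Finset.ext fun i => ?_)).trans c4)
      rcases (hpart i).1 with h | h | h <;> simp only [O4, Finset.mem_compl, Finset.mem_filter, Finset.mem_univ, true_and]
      · exact iff_of_false (not_not.2 (a2 i h)) (fun hh => hnd.1.2.2 _ h _ hh rfl)
      · exact iff_of_true (a4 i h) h
      · exact iff_of_false (not_not.2 (a16 i h)) (fun hh => hnd.2.2 _ (Or.inr hh) _ h rfl)
    · exfalso
      refine no2 _ hI ((cT O2 (Finset.ext fun i => ?_)).trans c2)
      rcases (hpart i).1 with h | h | h <;> simp only [O2, Finset.mem_filter, Finset.mem_univ, true_and]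
      · exact iff_of_true (a2 i h) h
      · exact iff_of_false (a4 i h) (fun hh => hnd.1.2.2 _ hh _ h rfl)
      · exact iff_of_false (a16 i h) (fun hh => hnd.2.2 _ (Or.inl hh) _ h rfl)
    · exfalso
      refine no2 _ hIc ((cTc O2 (Finset.ext fun i => ?_)).trans c2)
      rcases (hpart i).1 with h | h | h <;> simp only [O2, Finset.mem_compl, Finset.mem_filter, Finset.mem_univ, true_and]
      · exact iff_of_true (a2 i h) h
      · exact iff_of_false (not_not.2 (a4 i h)) (fun hh => hnd.1.2.2 _ hh _ h rfl)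
      · exact iff_of_false (not_not.2 (a16 i h)) (fun hh => hnd.2.2 _ (Or.inl hh) _ h rfl)
    · exfalso
      refine no4 _ hI ((cT O4 (Finset.ext fun i => ?_)).trans c4)
      rcases (hpart i).1 with h | h | h <;> simp only [O4, Finset.mem_filter, Finset.mem_univ, true_and]
      · exact iff_of_false (a2 i h) (fun hh => hnd.1.2.2 _ h _ hh rfl)
      · exact iff_of_true (a4 i h) h
      · exact iff_of_false (a16 i h) (fun hh => hnd.2.2 _ (Or.inr hh) _ h rfl)
    · exact ⟨_, hIc, hcompl.trans (Finset.ext fun i => by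
        rcases (hpart i).1 with h | h | h <;>
          simp only [B0, Finset.mem_compl, Finset.mem_filter, Finset.mem_univ, true_and]
        · exact iff_of_true (a2 i h) (Or.inl h)
        · exact iff_of_true (a4 i h) (Or.inr h)
        · exact iff_of_false (not_not.2 (a16 i h)) fun hh => by
            rcases hh with hh | hh
            exacts [hnd.2.2 _ (Or.inl hh) _ h rfl, hnd.2.2 _ (Or.inr hh) _ h rfl])⟩
    · exfalso
      obtain ⟨i, hi⟩ := Finset.nonempty_iff_ne_empty.2 hTe
      rcases (hpart i).1 with h | h | h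
      exacts [a2 i h hi, a4 i h hi, a16 i h hi]
  -- the block
  have hblk : ∀ i : Fin 22, i ∈ B0 ↔ pbR (vP i).val (vB 0).val = true := fun i => by
    simp only [B0, Finset.mem_filter, Finset.mem_univ, true_and, pbR_vP_vB]
    exact (hpart i).2.symm
  refine ⟨g • (0 : Fin 77), Subgroup.eq_of_le_of_card_ge (fun x hx => ?_) (by
    have := (stabilizer ↥S0 (g • (0 : Fin 77))).card_mul_index
    rw [index_block, natCard_S0] at this; omega)⟩
  suffices hfix : (g⁻¹ * (x * g)) • (0 : Fin 77) = 0 by
    rw [mul_smul, mul_smul, inv_smul_eq_iff] at hfix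
    exact hfix
  have hB : (g⁻¹ * (x * g)) • B0 = B0 := by
    calc (g⁻¹ * (x * g)) • B0 = g⁻¹ • (x • S) := by
          rw [← hSB, ← mul_smul, ← mul_smul]; congr 1; group
      _ = B0 := by rw [hS x hx, hSB]
  obtain ⟨k, hk⟩ := act0_block (g⁻¹ * (x * g)) 0
  refine vB_injective ((vB_smul _ 0).symm.trans (hk.trans (congrArg vB (blk_injective ?_))))
  ext i
  have key : ∀ l, i ∈ blk l ↔ pbR (vP i).val (vB l).val = true := fun l => by
    rw [blk, mem_dN, pbR_vP_vB]
  rw [key, key, ← hblk]
  conv_rhs => rw [← hB]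
  rw [Finset.mem_smul_finset]
  constructor
  · intro h
    refine ⟨(g⁻¹ * (x * g))⁻¹ • i, (hblk _).2 ?_, smul_inv_smul _ _⟩
    have := act0_adj (g⁻¹ * (x * g)) (vP ((g⁻¹ * (x * g))⁻¹ • i)) (vB 0)
    rw [vP_smul, smul_inv_smul, hk] at this
    rw [← this]; exact h
  · rintro ⟨y, hy, rfl⟩
    rw [← vP_smul, ← hk, act0_adj]
    exact (hblk y).1 hy

end CfsgLib.HSRec
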