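import Cfsg.Agent.Lib.HSRec.Checks
import Cfsg.Prelude.Def_Spor_Mathieu

/-!
The stabilizer of the extra vertex in the even automorphisms of the graph on 100 vertices, as the
Mathieu group on 22 points, with elements from checked data.
-/

set_option autoImplicit false
set_option maxRecDepth 10000

namespace CfsgLib.HSRec

open Cfsg CfsgLib.CosetEnum CfsgLib.M24.PackChain CfsgLib.Steiner

attribute [local irreducible] twoV twoProg blkProg

/-- the stabilizer of the extra vertex -/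
def S0 : Subgroup (Equiv.Perm (Fin 100)) :=
  EvenHS ⊓ MulAction.stabilizer (Equiv.Perm (Fin 100)) v0

theorem S0_eq : S0 = K22.map θ := even_stab

theorem natCard_S0 : Nat.card ↥S0 = 443520 := by
  rw [S0_eq, ← Nat.card_congr (K22.equivMapOfInjective θ θ_injective).toEquiv, natCard_K22.1]

theorem exists_sporEquiv : Nonempty (↥Cfsg.Spor.M22 ≃* ↥S0) := by
  have hne : E24 (Fin.last 23) ≠ E24 (Fin.last 22).castSucc :=
    fun h => Fin.castSucc_ne_last _ (E24.injective h).symm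
  obtain ⟨e1⟩ := CfsgLib.Golay.nonempty_equiv22 hne
  obtain ⟨e2⟩ := CfsgLib.Golay.nonempty_equiv22 (show (none : GolayPt) ≠ some 0 by simp)
  have eK : ↥K22 ≃* ↥(MulAction.stabilizer M24 (E24 (Fin.last 23)) ⊓
      MulAction.stabilizer M24 (E24 (Fin.last 22).castSucc)) :=
    (MonoidHom.ofInjective f22_injective).trans (MulEquiv.subgroupCongr f22_range)
  set A := MulAction.stabilizer M24 (none : GolayPt) ⊓ MulAction.stabilizer M24 (some 0 : GolayPt)
  have hA : A.map M24.subtype = Cfsg.Spor.M22 := by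
    ext g
    constructor
    · rintro ⟨x, ⟨h1, h2⟩, rfl⟩
      exact ⟨⟨x.2, h1⟩, h2⟩
    · rintro ⟨⟨hg, h1⟩, h2⟩
      exact ⟨⟨g, hg⟩, ⟨h1, h2⟩, rfl⟩
  let eA : ↥Cfsg.Spor.M22 ≃* ↥A :=
    (MulEquiv.subgroupCongr hA.symm).trans (A.equivMapOfInjective _ M24.subtype_injective).symm
  exact ⟨eA.trans (e2.trans (e1.symm.trans (eK.symm.trans
    ((K22.equivMapOfInjective θ θ_injective).trans (MulEquiv.subgroupCongr S0_eq.symm)))))⟩

/-- the action on the vertices -/
def act0 : ↥S0 →* Equiv.Perm (Fin 100) := S0.subtype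

theorem act0_aut (g : ↥S0) : act0 g ∈ AutHS := (mem_EvenHS.1 g.2.1).1

theorem act0_v0 (g : ↥S0) : act0 g v0 = v0 := g.2.2

theorem act0_adj (g : ↥S0) (x y : Fin 100) :
    pbR (act0 g x).val (act0 g y).val = pbR x.val y.val := act0_aut g x y

theorem el_mem {S : List (ℕ × ℕ)} {P : ℕ} (h : elOK S P = true) :
    swapsPerm S ∈ EvenHS ∧ ∀ x : Fin 100, (swapsPerm S x).val = pk P x.val := by
  simp only [elOK, Bool.and_eq_true, Nat.beq_eq, List.all_eq_true, List.mem_range, decide_eq_true_eq,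
    strict_eq, beq_iff_eq] at h
  obtain ⟨⟨⟨hS, hpar⟩, happ⟩, hadj⟩ := h
  have hS' : (S.all fun p => decide (p.1 < p.2) && decide (p.2 < 100)) = true := by
    simp only [List.all_eq_true, Bool.and_eq_true, decide_eq_true_eq]; exact hS
  have hval : ∀ x : Fin 100, (swapsPerm S x).val = pk P x.val := fun x =>
    (swapsPerm_val hS' x).trans (happ x x.2)
  refine ⟨mem_EvenHS.2 ⟨fun i j => ?_, ?_⟩, hval⟩
  · rw [hval, hval]; exact hadj i i.2 j j.2
  · rw [sign_swapsPerm hS']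
    exact Even.neg_one_pow (Nat.even_iff.2 hpar)

theorem exists_fam {SS : List (List (ℕ × ℕ))} {PS : List ℕ} (h : famOK SS PS = true) :
    ∃ a : Fin PS.length → ↥S0, ∀ k x, (act0 (a k) x : ℕ) = pk (nth PS k 0) x := by
  simp only [famOK, Bool.and_eq_true, Nat.beq_eq, List.all_eq_true, List.mem_range] at h
  obtain ⟨hl, hall⟩ := h
  choose hm hv using fun k : Fin PS.length => el_mem (hall k (hl.symm ▸ k.2)).1
  refine ⟨fun k => ⟨swapsPerm (SS.getD k []), hm k, ?_⟩, fun k x => hv k x⟩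
  show swapsPerm _ v0 = v0
  exact Fin.ext ((hv k v0).trans (hall k (hl.symm ▸ k.2)).2)

theorem exists_prog {SS : List (List (ℕ × ℕ))} {PS : List ℕ} {prog : List (ℕ × ℕ × ℕ)}
    (h : famOK SS PS = true) (hp : progOK 100 PS prog = true) :
    ∀ i < (vals PS prog).length, ∃ g : ↥S0, ∀ x, (act0 g x : ℕ) = pk (nth (vals PS prog) i 0) x := by
  obtain ⟨a, ha⟩ := exists_fam h
  intro i hi
  obtain ⟨g, hg, -⟩ := prog_good (φ := act0) (χ := 1) (by norm_num) prog PS (List.replicate PS.length 0)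
    (by simp) hp (fun k hk => ⟨a ⟨k, hk⟩, fun x => ha ⟨k, hk⟩ x, by
      have : (List.replicate PS.length 0).getD k 0 = 0 := by simp [List.getD_eq_getElem?_getD, hk]
      rw [this]; rfl⟩) i hi
  exact ⟨g, hg⟩

theorem act0_ext {g h : ↥S0} (e : ∀ x, (act0 g x : ℕ) = (act0 h x : ℕ)) : g = h :=
  Subtype.ext (Equiv.ext fun x => Fin.ext (e x))

/-! ### Points and blocks -/

theorem act0_point (g : ↥S0) (i : Fin 22) : ∃ k, act0 g (vP i) = vP k :=
  stab_point (act0_aut g) (act0_v0 g) i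

theorem act0_block (g : ↥S0) (j : Fin 77) : ∃ k, act0 g (vB j) = vB k :=
  stab_block (act0_aut g) (act0_v0 g) j

theorem three_trans (x y : Fin 3 ↪ Fin 22) : ∃ g : ↥S0, ∀ i, act0 g (vP (x i)) = vP (y i) := by
  obtain ⟨k, hk⟩ := K22_three x y
  refine ⟨⟨θ k.1, ⟨θK_mem k, (θ_spec k.1).2.1⟩⟩, fun i => ?_⟩
  show θ k.1 (vP (x i)) = _
  rw [(θ_spec k.1).2.2, hk]

theorem pts_trans (i i' : Fin 22) : ∃ g : ↥S0, act0 g (vP i) = vP i' := by
  obtain ⟨k, hk⟩ := points_trans i i'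
  exact ⟨⟨θ k.1, ⟨θK_mem k, (θ_spec k.1).2.1⟩⟩, hk⟩

theorem blks_trans (j j' : Fin 77) : ∃ g : ↥S0, act0 g (vB j) = vB j' := by
  obtain ⟨k, hk⟩ := blocks_trans j j'
  exact ⟨⟨θ k.1, ⟨θK_mem k, (θ_spec k.1).2.1⟩⟩, hk⟩

theorem exists_extend {A : Finset (Fin 22)} (hA : A.card = 2) {B : Finset (Fin 22)} (hB : B.card = 2) :
    ∃ g : ↥S0, ∀ i ∈ A, ∃ k ∈ B, act0 g (vP i) = vP k := by
  obtain ⟨a, b, hab, rfl⟩ := Finset.card_eq_two.1 hA
  obtain ⟨c, d, hcd, rfl⟩ := Finset.card_eq_two.1 hB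
  have ext3 : ∀ a b : Fin 22, a ≠ b → ∃ x : Fin 3 ↪ Fin 22, x 0 = a ∧ x 1 = b := by
    intro a b hab
    obtain ⟨c, hc⟩ : ∃ c : Fin 22, c ∉ ({a, b} : Finset (Fin 22)) := by
      by_contra hcon
      push Not at hcon
      have := Finset.card_le_card (s := Finset.univ) (t := ({a, b} : Finset (Fin 22))) fun z _ => hcon z
      simp [Finset.card_pair hab] at this
    simp only [Finset.mem_insert, Finset.mem_singleton, not_or] at hc
    refine ⟨⟨![a, b, c], fun i j h => ?_⟩, rfl, rfl⟩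
    fin_cases i <;> fin_cases j <;> simp_all
  obtain ⟨x, hx0, hx1⟩ := ext3 a b hab
  obtain ⟨y, hy0, hy1⟩ := ext3 c d hcd
  obtain ⟨g, hg⟩ := three_trans x y
  refine ⟨g, fun i hi => ?_⟩
  simp only [Finset.mem_insert, Finset.mem_singleton] at hi
  rcases hi with rfl | rfl
  · exact ⟨c, by simp, by rw [← hx0, hg, hy0]⟩
  · exact ⟨d, by simp, by rw [← hx1, hg, hy1]⟩

theorem exists_triple {A : Finset (Fin 22)} (hA : A.card = 3) {B : Finset (Fin 22)} (hB : B.card = 3) :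
    ∃ g : ↥S0, ∀ i ∈ A, ∃ k ∈ B, act0 g (vP i) = vP k := by
  let eA := (Finset.equivFinOfCardEq hA).symm
  let eB := (Finset.equivFinOfCardEq hB).symm
  obtain ⟨g, hg⟩ := three_trans (eA.toEmbedding.trans (Function.Embedding.subtype _))
    (eB.toEmbedding.trans (Function.Embedding.subtype _))
  refine ⟨g, fun i hi => ⟨eB (eA.symm ⟨i, hi⟩), (eB _).2, ?_⟩⟩
  have := hg (eA.symm ⟨i, hi⟩)
  simpa using this

theorem block_card : ∀ j : Fin 77, (Finset.univ.filter fun i : Fin 22 => pbR (vP i).val (vB j).val = true).card = 6 := by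
  decide +kernel

/-- incident pairs form one orbit -/
theorem flag_trans {i i' : Fin 22} {j j' : Fin 77} (h : pbR (vP i).val (vB j).val = true)
    (h' : pbR (vP i').val (vB j').val = true) :
    ∃ g : ↥S0, act0 g (vP i) = vP i' ∧ act0 g (vB j) = vB j' := by
  have hemb : ∀ (i : Fin 22) (j : Fin 77), pbR (vP i).val (vB j).val = true →
      ∃ x : Fin 3 ↪ Fin 22, x 0 = i ∧ ∀ k, x k ∈ blk j := by
    intro i j h
    have hi : i ∈ blk j := by rw [blk, mem_dN, ← pbR_vP_vB]; exact h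
    have h6 : (blk j).card = 6 := steiner22.1 _ (mem_sys22_iff.2 ⟨j, rfl⟩)
    obtain ⟨T, hT, hc⟩ := Finset.exists_subset_card_eq
      (show 2 ≤ ((blk j).erase i).card by rw [Finset.card_erase_of_mem hi, h6]; norm_num)
    obtain ⟨a, b, hab, rfl⟩ := Finset.card_eq_two.1 hc
    have ha := hT (Finset.mem_insert_self a {b})
    have hb := hT (Finset.mem_insert_of_mem (Finset.mem_singleton_self b))
    simp only [Finset.mem_erase] at ha hb
    refine ⟨⟨![i, a, b], fun u w he => ?_⟩, rfl, fun k => ?_⟩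
    · fin_cases u <;> fin_cases w <;> simp_all
    · fin_cases k <;> first | exact hi | exact ha.2 | exact hb.2
  obtain ⟨x, hx0, hx⟩ := hemb i j h
  obtain ⟨y, hy0, hy⟩ := hemb i' j' h'
  obtain ⟨g, hg⟩ := three_trans x y
  obtain ⟨l, hl⟩ := act0_block g j
  refine ⟨g, by rw [← hx0, hg, hy0], ?_⟩
  rw [hl]
  refine congrArg vB (blk_injective ?_)
  obtain ⟨b, -, huniq⟩ := steiner22.2 (Finset.univ.map y) (by simp)
  rw [huniq (blk l) ⟨mem_sys22_iff.2 ⟨l, rfl⟩, fun z hz => ?_⟩,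
    huniq (blk j') ⟨mem_sys22_iff.2 ⟨j', rfl⟩, fun z hz => ?_⟩]
  · obtain ⟨k, -, rfl⟩ := Finset.mem_map.1 hz
    exact hy k
  · obtain ⟨k, -, rfl⟩ := Finset.mem_map.1 hz
    rw [blk, mem_dN, ← pbR_vP_vB, ← hl, ← hg, act0_adj, pbR_vP_vB, ← mem_dN]
    exact hx k

end CfsgLib.HSRec
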