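import Cfsg.Agent.Lib.HSRec.Data

/-!
The checks of the data for the graph on 100 vertices.
-/

set_option autoImplicit false
set_option Elab.async false
set_option maxRecDepth 30000

namespace CfsgLib.HSRec

open Cfsg CfsgLib.CosetEnum CfsgLib.M24.PackChain CfsgLib.Steiner

/-- an even automorphism given by exchanges, agreeing with a packed permutation -/
noncomputable def elOK (S : List (ℕ × ℕ)) (P : ℕ) : Bool :=
  (S.all fun p => decide (p.1 < p.2) && decide (p.2 < 100)) && Nat.beq (S.length % 2) 0 &&
    ((List.range 100).all fun i => Nat.beq (swapsApp S i) (pk P i)) &&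
      strict P fun P => (List.range 100).all fun i => strict (pk P i) fun a =>
        (List.range 100).all fun j => pbR a (pk P j) == pbR i j

/-- the checks of a family fixing the extra vertex -/
noncomputable def famOK (SS : List (List (ℕ × ℕ))) (PS : List ℕ) : Bool :=
  Nat.beq SS.length PS.length &&
    (List.range SS.length).all fun k => elOK (SS.getD k []) (nth PS k 0) && Nat.beq (pk (nth PS k 0) 99) 99

theorem syl_chk : famOK sylS sylP = true := by decide +kernel

theorem two_chk : famOK twoS twoP = true ∧ progOK 100 twoP twoProg = true := by decide +kernel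

theorem blk_chk : famOK blkS blkP = true ∧ progOK 100 blkP blkProg = true := by decide +kernel

theorem q_chk : Nat.beq QS.length Q.length = true ∧
    ((List.range QS.length).all fun k => elOK (QS.getD k []) (nth Q k 0)) = true := by decide +kernel

/-- iterate a packed permutation -/
noncomputable def itP (P : ℕ) : ℕ → ℕ → ℕ
  | 0, x => x
  | n + 1, x => pk P (itP P n x)

theorem seven_chk : ((List.range 100).all fun x => Nat.beq (itP (nth sylP 0 0) 7 x) x) = true ∧
    ((List.range 22).filter fun i => Nat.beq (pk (nth sylP 0 0) (77 + i)) (77 + i)).length ≤ 1 := by decide +kernel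

theorem five_chk : ((List.range 100).all fun x => Nat.beq (itP (nth sylP 1 0) 5 x) x) = true ∧
    ((List.range 22).filter fun i => Nat.beq (pk (nth sylP 1 0) (77 + i)) (77 + i)).length ≤ 2 := by decide +kernel

/-- the elements of the two-subgroup -/
def twoV : List ℕ := vals twoP twoProg

theorem two_closed : twoV.length = 128 ∧ (twoV.map fun p => (List.range 100).map fun x => pk p x).Nodup ∧ twoP.length = twoMul.length + 1 ∧
    ((List.range 100).all fun x => Nat.beq (pk (nth twoP 0 0) x) x) = true ∧
    ((List.range twoMul.length).all fun k => (List.range 128).all fun i =>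
      strict (nth (twoMul.getD k []) i 0) fun j => Nat.blt j 128 &&
        allUp (compAt 100 (nth twoV j 0) (nth twoV i 0) (nth twoP (k + 1) 0)) 10 0) = true := by
  decide +kernel

theorem two_orbits : (orb2.all fun x => twoV.any fun p => Nat.beq (pk p (77 + orb2.headD 0)) (77 + x)) = true ∧
    (orb4.all fun x => twoV.any fun p => Nat.beq (pk p (77 + orb4.headD 0)) (77 + x)) = true ∧
    (orb16.all fun x => twoV.any fun p => Nat.beq (pk p (77 + orb16.headD 0)) (77 + x)) = true ∧
    (∀ i : Fin 22, (i.val ∈ orb2 ∨ i.val ∈ orb4 ∨ i.val ∈ orb16) ∧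
      ((std22.getD 0 0).testBit i.val = true ↔ (i.val ∈ orb2 ∨ i.val ∈ orb4))) ∧
    orb2.length = 2 ∧ orb4.length = 4 ∧ (orb2 ++ orb4 ++ orb16).Nodup ∧
    (∀ x ∈ orb2 ++ orb4 ++ orb16, x < 22) := by
  decide +kernel

/-- the representative of the kind of a block -/
def kindRep (j : Fin 77) : Fin 77 := if pbR 0 j.val = true then rep16 else rep60

theorem two_len : twoP.length = twoMul.length + 1 ∧ 0 < twoP.length := by decide +kernel

theorem two_fix : (twoV.all fun p => Nat.beq (pk p 0) 0) = true := by decide +kernel

theorem blk_orbits : blkWit.length = 77 ∧ (∀ j : Fin 77, j.val ≠ 0 →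
    blkWit.getD j.val 0 < (vals blkP blkProg).length ∧
      pk (nth (vals blkP blkProg) (blkWit.getD j.val 0) 0) (kindRep j).val = j.val) ∧
    ((List.range (vals blkP blkProg).length).all fun k => Nat.beq (pk (nth (vals blkP blkProg) k 0) 0) 0) = true ∧
    pbR 0 rep16.val = true ∧ pbR 0 rep60.val = false ∧ rep60.val ≠ 0 := by
  decide +kernel

end CfsgLib.HSRec
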