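import Cfsg.Agent.Lib.HSRec.Checks

/-!
The checks of the identification with a stabilizer in the automorphism group of the Leech lattice.
-/

set_option autoImplicit false
set_option Elab.async false
set_option maxRecDepth 30000

namespace CfsgLib.HSRec

open CfsgLib.LeechIso

theorem gens_chk : gensOK 100 V W keys P = true := by decide +kernel

theorem chain_chk : chainOK 100 44352000 P prog levels = true := by decide +kernel

theorem chainM_chk : chainOK 100 44352000 Q progM levelsM = true := by decide +kernel

theorem rel_chk : relOK 100 100 R P Q (0, 99, 0) = true := by decide +kernel

end CfsgLib.HSRec
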