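import Cfsg.Agent.Lib.HSRec.Action

/-!
A rank three group on 100 points with stabilizer the Mathieu group is the group of even automorphisms
of the graph.
-/

set_option autoImplicit false
set_option maxRecDepth 10000

namespace CfsgLib.HSRec

open Cfsg CfsgLib.CosetEnum CfsgLib.M24.PackChain CfsgLib.Steiner MulAction

attribute [local irreducible] twoV twoProg blkProg

theorem exists_equivariant {H K α Ω : Type*} [Group H] [Group K] [MulAction H Ω] [MulAction K α]
    [IsPretransitive K α] (ε : H ≃* K) (w : Ω) (i0 : α)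
    (h : (stabilizer H w).map ε.toMonoidHom = stabilizer K i0) :
    ∃ f : α → Ω, Function.Injective f ∧ Set.range f = orbit H w ∧ ∀ (x : H) i, f (ε x • i) = x • f i := by
  choose k hk using fun i : α => exists_smul_eq K i0 i
  let f : α → Ω := fun i => ε.symm (k i) • w
  have key : ∀ (x : H) i, ε x • i0 = i → f i = x • w := fun x i e => by
    have hm : (k i)⁻¹ * ε x ∈ stabilizer K i0 := by
      rw [mem_stabilizer_iff, mul_smul, e, inv_smul_eq_iff, hk]
    rw [← h, Subgroup.mem_map] at hm
    obtain ⟨y, hy, he⟩ := hm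
    have : x = ε.symm (k i) * y := ε.injective (by
      rw [map_mul, MulEquiv.apply_symm_apply, show ε y = (k i)⁻¹ * ε x from he, mul_inv_cancel_left])
    rw [this, mul_smul, mem_stabilizer_iff.1 hy]
  refine ⟨f, fun i j e => ?_, ?_, fun x i => ?_⟩
  · have hm : (ε.symm (k j))⁻¹ * ε.symm (k i) ∈ stabilizer H w := by
      rw [mem_stabilizer_iff, mul_smul, inv_smul_eq_iff]; exact e
    have := Subgroup.mem_map_of_mem ε.toMonoidHom hm
    rw [h, mem_stabilizer_iff] at this
    simp only [MulEquiv.coe_toMonoidHom, map_mul, map_inv, MulEquiv.apply_symm_apply, mul_smul,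
      inv_smul_eq_iff, hk] at this
    exact this
  · ext y
    constructor
    · rintro ⟨i, rfl⟩; exact ⟨_, rfl⟩
    · rintro ⟨x, rfl⟩; exact ⟨ε x • i0, key x _ rfl⟩
  · rw [key (x * ε.symm (k i)) _ (by rw [map_mul, MulEquiv.apply_symm_apply, mul_smul, hk]), mul_smul]

/-- the pattern of a relation on the vertices given by its values on the five kinds of pairs -/
def kindRel (c : Bool × Bool × Bool × Bool × Bool) (x y : ℕ) : Bool :=
  if x == y then false else
  if x < 77 then (if y < 77 then (if pbR x y then c.2.2.2.1 else c.2.2.2.2) else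
      decide (y < 99) && (if pbR x y then c.2.1 else c.2.2.1))
  else if x < 99 then (if y < 77 then (if pbR x y then c.2.1 else c.2.2.1) else
      (if y < 99 then c.1 else true))
  else decide (77 ≤ y) && decide (y < 99)

theorem kind_unique : ∀ c : Bool × Bool × Bool × Bool × Bool,
    ((List.range 100).filter (kindRel c 77)).length = 22 →
    ((List.range 100).filter (kindRel c 0)).length = 22 → c = (false, true, false, true, false) := by
  decide +kernel

theorem kind_std : ((List.range 100).all fun x => (List.range 100).all fun y =>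
    kindRel (false, true, false, true, false) x y == pbR x y) = true := by decide +kernel

theorem vB_ne {j : Fin 77} : j ≠ 0 ↔ j.val ≠ 0 := Fin.val_ne_zero_iff.symm

section

variable {R : Fin 100 → Fin 100 → Prop}

/-- every orbit of pairs has one value -/
theorem eq_kind (hinv : ∀ (g : ↥S0) x y, R x y → R (act0 g x) (act0 g y)) (hirr : ∀ x, ¬ R x x)
    (hsymm : ∀ x y, R x y → R y x) (h0 : ∀ y, R v0 y ↔ ∃ i, y = vP i) :
    ∃ c, ∀ x y, R x y ↔ kindRel c x.val y.val = true := by
  classical
  have hiff : ∀ (g : ↥S0) x y, R (act0 g x) (act0 g y) ↔ R x y := fun g x y => by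
    refine ⟨fun h => ?_, hinv g x y⟩
    have := hinv g⁻¹ _ _ h
    rwa [← Equiv.Perm.mul_apply, ← Equiv.Perm.mul_apply, ← map_mul, inv_mul_cancel, map_one] at this
  obtain ⟨hwl, hwit, hfix, h16, h60, h60'⟩ := blk_orbits
  obtain ⟨o2, o4, o16, hpart, hl2, hl4, hnd, hlt⟩ := two_orbits
  set r : Fin 22 := ⟨orb16.headD 0, by decide⟩
  obtain ⟨i0, hi0⟩ : ∃ i : Fin 22, pbR (vP i).val (vB 0).val = true := block_has_point 0
  obtain ⟨i1, hi1⟩ : ∃ i : Fin 22, i ≠ (0 : Fin 22) := ⟨1, by decide⟩
  set c : Bool × Bool × Bool × Bool × Bool := (decide (R (vP 0) (vP i1)), decide (R (vP i0) (vB 0)),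
    decide (R (vP r) (vB 0)), decide (R (vB 0) (vB rep16)), decide (R (vB 0) (vB rep60)))
  have hPP : ∀ i j : Fin 22, i ≠ j → (R (vP i) (vP j) ↔ c.1 = true) := fun i j hne => by
    obtain ⟨g, hg⟩ := exists_extend (A := {0, i1}) (Finset.card_pair hi1.symm) (B := {i, j}) (Finset.card_pair hne)
    obtain ⟨k, hk, ek⟩ := hg 0 (by simp)
    obtain ⟨l, hl, el⟩ := hg i1 (by simp)
    have hkl : k ≠ l := fun e => hi1 (vP_injective ((act0 g).injective (by rw [ek, el, e])).symm)
    simp only [c, decide_eq_true_eq, ← hiff g (vP 0) (vP i1), ek, el]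
    simp only [Finset.mem_insert, Finset.mem_singleton] at hk hl
    rcases hk with rfl | rfl <;> rcases hl with rfl | rfl
    · exact absurd rfl hkl
    · exact Iff.rfl
    · exact ⟨hsymm _ _, hsymm _ _⟩
    · exact absurd rfl hkl
  have hPB : ∀ i j, (R (vP i) (vB j) ↔ (if pbR (vP i).val (vB j).val then c.2.1 else c.2.2.1) = true) := by
    intro i j
    by_cases hp : pbR (vP i).val (vB j).val = true
    · obtain ⟨g, g1, g2⟩ := flag_trans hi0 hp
      rw [if_pos hp]
      simp only [c, decide_eq_true_eq, ← hiff g (vP i0) (vB 0), g1, g2]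
    · rw [if_neg hp]
      obtain ⟨g, hg⟩ := blks_trans j 0
      obtain ⟨k, hk⟩ := act0_point g i
      have hk0 : pbR (vP k).val (vB 0).val ≠ true := by rw [← hk, ← hg, act0_adj]; exact hp
      have hk16 : k.val ∈ orb16 := by
        rcases (hpart k).1 with h | h | h
        · exact absurd ((pbR_vP_vB k 0).trans ((hpart k).2.2 (Or.inl h))) hk0
        · exact absurd ((pbR_vP_vB k 0).trans ((hpart k).2.2 (Or.inr h))) hk0
        · exact h
      obtain ⟨p, hp', hpe⟩ := List.any_eq_true.1 (List.all_eq_true.1 o16 _ hk16)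
      obtain ⟨n, hn, rfl⟩ := List.mem_iff_getElem.1 hp'
      rw [Nat.beq_eq] at hpe
      have hf := List.all_eq_true.1 two_fix _ hp'
      rw [Nat.beq_eq] at hf
      obtain ⟨t, ht⟩ := exists_prog two_chk.1 two_chk.2 n (by unfold twoV at hn; exact hn)
      have hnth : nth (vals twoP twoProg) n 0 = twoV[n] := by
        unfold twoV at hn ⊢; rw [nth_eq, List.getD_eq_getElem _ _ hn]
      have t1 : act0 t (vP r) = vP k := Fin.ext (by rw [ht, hnth]; exact hpe)
      have t2 : act0 t (vB 0) = vB 0 := Fin.ext (by rw [ht, hnth]; exact hf)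
      rw [← hiff g, hk, hg, ← t1, ← t2, hiff t]
      simp [c]
  have hBB : ∀ j l : Fin 77, j ≠ l → (R (vB j) (vB l) ↔
      (if pbR (vB j).val (vB l).val then c.2.2.2.1 else c.2.2.2.2) = true) := by
    intro j l hne
    obtain ⟨g, hg⟩ := blks_trans j 0
    obtain ⟨m, hm⟩ := act0_block g l
    have hm0 : m.val ≠ 0 := fun e => hne (vB_injective ((act0 g).injective (by
      rw [hg, hm]; exact congrArg vB (Fin.ext e.symm))))
    obtain ⟨hlt', hval⟩ := hwit m hm0
    obtain ⟨t, ht⟩ := exists_prog blk_chk.1 blk_chk.2 _ hlt'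
    have t0 : act0 t (vB 0) = vB 0 := Fin.ext (by
      rw [ht]
      have := List.all_eq_true.1 hfix _ (List.mem_range.2 hlt')
      rw [Nat.beq_eq] at this
      exact this)
    have t1 : act0 t (vB (kindRep m)) = vB m := Fin.ext (by rw [ht]; exact hval)
    rw [← hiff g, hg, hm, ← act0_adj g (vB j) (vB l), hg, hm, ← t0, ← t1, hiff t, act0_adj]
    unfold kindRep
    by_cases hp : pbR 0 m.val = true
    · rw [if_pos hp, if_pos (show pbR (vB 0).val (vB rep16).val = true from h16)]
      simp [c]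
    · rw [if_neg hp, if_neg (show ¬ pbR (vB 0).val (vB rep60).val = true by
        show ¬ pbR 0 rep60.val = true
        rw [h60]; exact Bool.false_ne_true)]
      simp [c]
  have eP : ∀ i : Fin 22, ¬ (vP i).val < 77 ∧ (vP i).val < 99 := fun i => by simp only [vP]; omega
  have eB : ∀ j : Fin 77, (vB j).val < 77 := fun j => j.2
  have e0 : ¬ v0.val < 77 ∧ ¬ v0.val < 99 := ⟨by simp [v0], by simp [v0]⟩
  refine ⟨c, fun x y => ?_⟩
  by_cases hxy : x = y
  · subst hxy
    simp [kindRel, hirr]
  have hv : ¬ (x.val == y.val) = true := by simpa using fun e => hxy (Fin.ext e)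
  unfold kindRel
  rw [if_neg hv]
  rcases vertex_cases x with ⟨j, rfl⟩ | ⟨i, rfl⟩ | rfl <;>
    rcases vertex_cases y with ⟨l, rfl⟩ | ⟨k, rfl⟩ | rfl
  · rw [if_pos (eB j), if_pos (eB l)]
    exact hBB j l fun e => hxy (congrArg vB e)
  · rw [if_pos (eB j), if_neg (eP k).1]
    simp only [(eP k).2, decide_true, Bool.true_and]
    rw [pbR_symm]
    exact (Iff.intro (hsymm _ _) (hsymm _ _)).trans (hPB k j)
  · rw [if_pos (eB j), if_neg e0.1]
    simp only [e0.2, decide_false, Bool.false_and, Bool.false_eq_true, iff_false]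
    exact fun h => by
      obtain ⟨i, hi⟩ := (h0 _).1 (hsymm _ _ h)
      exact vB_ne_vP i j hi
  · rw [if_neg (eP i).1, if_pos (eP i).2, if_pos (eB l)]
    exact hPB i l
  · rw [if_neg (eP i).1, if_pos (eP i).2, if_neg (eP k).1, if_pos (eP k).2]
    exact hPP i k fun e => hxy (congrArg vP e)
  · rw [if_neg (eP i).1, if_pos (eP i).2, if_neg e0.1, if_neg e0.2]
    simp only [iff_true]
    exact hsymm _ _ ((h0 _).2 ⟨i, rfl⟩)
  all_goals
    rw [if_neg e0.1, if_neg e0.2, h0]
  · constructor
    · rintro ⟨i, hi⟩; exact absurd hi (vB_ne_vP i l)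
    · intro h
      have := eB l
      simp only [Bool.and_eq_true, decide_eq_true_eq] at h
      omega
  · exact iff_of_true ⟨k, rfl⟩ (by
      have h77 := eP k
      simp only [Bool.and_eq_true, decide_eq_true_eq]
      omega)
  · exact absurd rfl hxy

end

/-- The recognition. -/
theorem equiv_evenHS {Ω : Type*} [Fintype Ω] [DecidableEq Ω] (hΩ : Fintype.card Ω = 100)
    (G : Subgroup (Equiv.Perm Ω)) [IsPretransitive G Ω] (a : Ω) (ε : stabilizer G a ≃* ↥S0) (b c : Ω)
    (hb : (orbit (stabilizer G a) b).ncard = 22) (hc : (orbit (stabilizer G a) c).ncard = 77) :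
    Nonempty (↥G ≃* ↥EvenHS) := by
  classical
  set H := stabilizer G a
  have index_eq : ∀ w : Ω, ((stabilizer ↥H w).map ε.toMonoidHom).index = (orbit ↥H w).ncard := fun w => by
    rw [show (stabilizer ↥H w).map ε.toMonoidHom = (stabilizer ↥H w).map (ε : ↥H →* ↥S0) from rfl,
      Subgroup.index_map_equiv, index_stabilizer]
  obtain ⟨i0, hi0⟩ := index22 _ ((index_eq b).trans hb)
  obtain ⟨j0, hj0⟩ := index77 _ ((index_eq c).trans hc)
  obtain ⟨fP, fPi, fPr, fPe⟩ := exists_equivariant ε b i0 hi0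
  obtain ⟨fB, fBi, fBr, fBe⟩ := exists_equivariant ε c j0 hj0
  have hPB : ∀ i j, fP i ≠ fB j := fun i j e => by
    have h1 : fP i ∈ orbit ↥H b := fPr ▸ ⟨i, rfl⟩
    have h2 : fP i ∈ orbit ↥H c := by rw [e]; exact fBr ▸ ⟨j, rfl⟩
    rw [← orbit_eq_iff.2 h1, orbit_eq_iff.2 h2, hc] at hb
    omega
  have hfixa : ∀ x : ↥H, x • a = a := fun x => x.2
  have hane : ∀ w, (orbit ↥H w).ncard ≠ 1 → a ∉ orbit ↥H w := fun w hw ha => hw (by
    rw [← orbit_eq_iff.2 ha]
    rw [Set.ncard_eq_one]
    exact ⟨a, Set.eq_singleton_iff_unique_mem.2 ⟨mem_orbit_self a, by rintro _ ⟨x, rfl⟩; exact hfixa x⟩⟩)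
  have haP : ∀ i, fP i ≠ a := fun i e => hane b (by omega) (e ▸ fPr ▸ ⟨i, rfl⟩)
  have haB : ∀ j, fB j ≠ a := fun j e => hane c (by omega) (e ▸ fBr ▸ ⟨j, rfl⟩)
  let f : Fin 100 → Ω := fun x =>
    if h : x.val < 77 then fB ⟨x.val, h⟩ else if h' : x.val < 99 then fP ⟨x.val - 77, by omega⟩ else a
  have fvB : ∀ j, f (vB j) = fB j := fun j => by simp only [f, vB, j.2, dite_true]
  have fvP : ∀ i, f (vP i) = fP i := fun i => by
    simp only [f, vP, show ¬ 77 + i.val < 77 by omega, show 77 + i.val < 99 by omega, dite_true, dite_false,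
      Nat.add_sub_cancel_left]
  have fv0 : f v0 = a := by simp [f, v0]
  have finj : Function.Injective f := by
    intro x y h
    rcases vertex_cases x with ⟨j, rfl⟩ | ⟨i, rfl⟩ | rfl <;>
      rcases vertex_cases y with ⟨l, rfl⟩ | ⟨k, rfl⟩ | rfl <;> simp only [fvB, fvP, fv0] at h
    · rw [fBi h]
    · exact absurd h.symm (hPB _ _)
    · exact absurd h (haB _)
    · exact absurd h (hPB _ _)
    · rw [fPi h]
    · exact absurd h (haP _)
    · exact absurd h.symm (haB _)
    · exact absurd h.symm (haP _)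
    · rfl
  have fbij : Function.Bijective f :=
    (Fintype.bijective_iff_injective_and_card f).2 ⟨finj, by rw [hΩ]; rfl⟩
  let L : Fin 100 ≃ Ω := Equiv.ofBijective f fbij
  have Leq : ∀ (x : ↥H) v, L (act0 (ε x) v) = x • L v := fun x v => by
    show f _ = x • f v
    rcases vertex_cases v with ⟨j, rfl⟩ | ⟨i, rfl⟩ | rfl
    · rw [vB_smul, fvB, fvB, fBe]
    · rw [vP_smul, fvP, fvP, fPe]
    · rw [act0_v0, fv0, hfixa]
  -- the graph
  let E : Ω → Ω → Prop := fun x y => ∃ g : ↥G, g • a = x ∧ g • b = y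
  have Einv : ∀ (g : ↥G) {x y}, E x y → E (g • x) (g • y) := fun g x y ⟨k, h1, h2⟩ =>
    ⟨g * k, by rw [mul_smul, h1], by rw [mul_smul, h2]⟩
  have Ea : ∀ y, E a y ↔ y ∈ orbit ↥H b := fun y =>
    ⟨fun ⟨g, h1, h2⟩ => ⟨⟨g, h1⟩, h2⟩, fun ⟨x, hx⟩ => ⟨x.1, x.2, hx⟩⟩
  have hdeg : ∀ x, {y | E x y}.ncard = 22 := fun x => by
    obtain ⟨g, rfl⟩ := exists_smul_eq ↥G a x
    rw [← hb, ← Set.ncard_smul_set g (orbit ↥H b)]
    congr 1
    ext y
    rw [Set.mem_smul_set_iff_inv_smul_mem, ← Ea]
    exact ⟨fun h => by simpa using Einv g⁻¹ h, fun h => by simpa using Einv g h⟩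
  have hin : {y | E y a}.ncard = 22 := by
    have h := Finset.sum_card_bipartiteAbove_eq_sum_card_bipartiteBelow (fun x y => E x y)
      (s := (Finset.univ : Finset Ω)) (t := (Finset.univ : Finset Ω))
    have e1 : ∀ x, (Finset.bipartiteAbove (fun x y => E x y) (Finset.univ : Finset Ω) x).card = 22 := fun x => by
      rw [← hdeg x, Set.ncard_eq_toFinset_card']; congr 1; ext y; simp [Finset.bipartiteAbove]
    have e2 : ∀ y, (Finset.bipartiteBelow (fun x y => E x y) (Finset.univ : Finset Ω) y).card =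
        {z | E z a}.ncard := fun y => by
      obtain ⟨g, rfl⟩ := exists_smul_eq ↥G a y
      rw [← Set.ncard_smul_set g {z | E z a}, Set.ncard_eq_toFinset_card']
      congr 1
      ext z
      simp only [Finset.bipartiteBelow, Finset.mem_filter, Finset.mem_univ, true_and, Set.mem_toFinset,
        Set.mem_smul_set_iff_inv_smul_mem, Set.mem_setOf_eq]
      exact ⟨fun h => by simpa using Einv g⁻¹ h, fun h => by simpa using Einv g h⟩
    simp only [e1, e2, Finset.sum_const, Finset.card_univ, hΩ, smul_eq_mul] at h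
    omega
  have hEaa : ¬ E a a := fun h => hane b (by omega) ((Ea a).1 h)
  have hba : E b a := by
    set T := {y | E y a}
    have hTinv : ∀ (x : ↥H) y, y ∈ T → x • y ∈ T := fun x y hy => by
      have h := Einv x.1 hy
      rw [show x.1 • a = a from x.2] at h
      exact h
    have hsub : T ⊆ orbit ↥H b := by
      intro y hy
      obtain ⟨v, rfl⟩ := L.surjective y
      rcases vertex_cases v with ⟨j, rfl⟩ | ⟨i, rfl⟩ | rfl
      · exfalso
        have hjc : L (vB j) ∈ orbit ↥H c := by
          show f (vB j) ∈ _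
          rw [fvB, ← fBr]; exact ⟨j, rfl⟩
        have : orbit ↥H c ⊆ T := by
          rw [← orbit_eq_iff.2 hjc]
          rintro _ ⟨x, rfl⟩; exact hTinv x _ hy
        have := Set.ncard_le_ncard this (Set.toFinite _)
        omega
      · show f (vP i) ∈ _
        rw [fvP, ← fPr]; exact ⟨i, rfl⟩
      · exact absurd (show E a a by rw [show L v0 = a from fv0] at hy; exact hy) hEaa
    have := Set.eq_of_subset_of_ncard_le hsub (by rw [hin, hb]) (Set.toFinite _)
    rw [Set.ext_iff] at this
    exact (this b).2 (mem_orbit_self b)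
  have Esymm : ∀ {x y}, E x y → E y x := fun ⟨g, h1, h2⟩ => by
    obtain ⟨k, k1, k2⟩ := hba
    exact ⟨g * k, by rw [mul_smul, k1, h2], by rw [mul_smul, k2, h1]⟩
  obtain ⟨cc, hcc⟩ := eq_kind (R := fun x y => E (L x) (L y))
    (fun g x y h => by
      obtain ⟨z, rfl⟩ := ε.surjective g
      rw [Leq, Leq]; exact Einv z.1 h)
    (fun x h => hEaa (by
      obtain ⟨g, hg⟩ := exists_smul_eq ↥G (L x) a
      have := Einv g h
      rwa [hg] at this))
    (fun x y h => Esymm h)
    (fun y => by
      show E (f v0) (L y) ↔ _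
      rw [fv0, Ea, ← fPr]
      constructor
      · rintro ⟨i, hi⟩; exact ⟨i, L.injective (hi.symm.trans (fvP i).symm)⟩
      · rintro ⟨i, rfl⟩; exact ⟨i, (fvP i).symm⟩)
  have hrow : ∀ x : Fin 100, ((List.range 100).filter (kindRel cc x.val)).length = 22 := fun x => by
    rw [← List.toFinset_card_of_nodup (List.nodup_range.filter _), ← hdeg (L x)]
    rw [show {y | E (L x) y} = L '' {v | E (L x) (L v)} by
      ext y; exact ⟨fun h => ⟨L.symm y, by simpa using h, L.apply_symm_apply y⟩, by rintro ⟨v, hv, rfl⟩; exact hv⟩,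
      Set.ncard_image_of_injective _ L.injective, Set.ncard_eq_toFinset_card']
    refine (Finset.card_bij (fun v _ => v.val) (fun v hv => ?_) (fun _ _ _ _ e => Fin.ext e) fun n hn => ?_).symm
    · simp only [Set.mem_toFinset, Set.mem_setOf_eq] at hv
      simp only [List.mem_toFinset, List.mem_filter, List.mem_range]
      exact ⟨v.2, (hcc x v).1 hv⟩
    · simp only [List.mem_toFinset, List.mem_filter, List.mem_range] at hn
      exact ⟨⟨n, hn.1⟩, by simp only [Set.mem_toFinset, Set.mem_setOf_eq]; exact (hcc x ⟨n, hn.1⟩).2 hn.2, rfl⟩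
  have hc' := kind_unique cc (hrow (vP 0)) (hrow (vB 0))
  subst hc'
  have hadj : ∀ x y : Fin 100, E (L x) (L y) ↔ pbR x.val y.val = true := fun x y => by
    rw [hcc]
    have h := kind_std
    simp only [List.all_eq_true, List.mem_range, beq_iff_eq] at h
    rw [h x x.2 y y.2]
  -- the pulled back group
  let ψ : Equiv.Perm Ω →* Equiv.Perm (Fin 100) := L.symm.permCongrHom.toMonoidHom
  have hψ : ∀ (g : Equiv.Perm Ω) x, ψ g x = L.symm (g (L x)) := fun g x => by
    simp [ψ, Equiv.permCongrHom, Equiv.permCongr_apply]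
  set A := G.map ψ
  have hA : A ≤ AutHS := by
    rintro _ ⟨g, hg, rfl⟩ x y
    rw [Bool.eq_iff_iff, ← hadj, ← hadj, hψ, hψ, L.apply_symm_apply, L.apply_symm_apply]
    exact ⟨fun h => by simpa [Subgroup.smul_def] using Einv (⟨g, hg⟩⁻¹ : ↥G) h,
      fun h => Einv (⟨g, hg⟩ : ↥G) h⟩
  have hψi : Function.Injective ψ := L.symm.permCongrHom.injective
  have hGA : ↥G ≃* ↥A := G.equivMapOfInjective ψ hψi
  have hcardA : Nat.card ↥A = 44352000 := by
    rw [← Nat.card_congr hGA.toEquiv]
    have h := H.card_mul_index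
    rw [show H.index = Nat.card Ω from index_stabilizer_of_transitive G a, Nat.card_eq_fintype_card (α := Ω), hΩ,
      Nat.card_congr ε.toEquiv, natCard_S0] at h
    omega
  refine ⟨hGA.trans (MulEquiv.subgroupCongr (Subgroup.eq_of_le_of_card_ge ?_ (by
    rw [hcardA, natCard_EvenHS])))⟩
  -- the index two subgroup of the even part
  have h1 : (A.subgroupOf AutHS).index = 2 := by
    have h := Subgroup.card_mul_index (A.subgroupOf AutHS)
    rw [Nat.card_congr (Subgroup.subgroupOfEquivOfLe hA).toEquiv, hcardA, natCard_AutHS] at h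
    omega
  set N := A.subgroupOf EvenHS
  have hN : N.index ≤ 2 := by
    have hle : EvenHS ≤ AutHS := inf_le_left
    have : A.relIndex EvenHS ≤ A.relIndex AutHS :=
      Subgroup.relIndex_le_of_le_right hle (by show (A.subgroupOf AutHS).index ≠ 0; omega)
    calc N.index = A.relIndex EvenHS := rfl
      _ ≤ _ := this
      _ = 2 := h1
  have hNtop : N = ⊤ := by
    by_contra hne
    have h2 : N.index = 2 := by
      have := Subgroup.one_lt_index_of_ne_top hne
      omega
    have := Subgroup.normal_of_index_eq_two h2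
    have := simple_EvenHS
    rcases (inferInstance : N.Normal).eq_bot_or_eq_top with hbot | htop
    · have := N.card_mul_index
      rw [hbot, Subgroup.card_bot] at this
      rw [hbot] at h2
      rw [Subgroup.index_bot, natCard_EvenHS] at h2
      omega
    · exact hne htop
  exact (Subgroup.eq_of_le_of_card_ge (Subgroup.subgroupOf_eq_top.1 hNtop) (by rw [hcardA, natCard_EvenHS])).ge

end CfsgLib.HSRec
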