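import Cfsg.Agent.Lib.HSRec.ChecksIso
import Cfsg.Agent.Lib.HSRec.Basic
import Cfsg.Agent.Lib.LeechIso.Count
import Cfsg.Prelude.Def_Spor_Conway

/-!
The even automorphisms of the graph are the Higman–Sims group of the lattice.
-/

set_option autoImplicit false
set_option maxRecDepth 10000

namespace CfsgLib.HSRec

open Cfsg CfsgLib.CosetEnum CfsgLib.M24.PackChain CfsgLib.Steiner CfsgLib.Leech CfsgLib.Golay CfsgLib.LeechIso

attribute [local irreducible] dL bL key keyL coord packB linL bits prog progM levels levelsM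

theorem V_facts : V.length = 2 ∧ (∀ p : GolayPt, vec (V.getD 0 []) p = -Cfsg.Spor.vecV p ∧
    vec (V.getD 1 []) p = Cfsg.Spor.vecU' p) ∧ inL (V.getD 0 []) = true ∧ inL (V.getD 1 []) = true ∧
    (dotL (V.getD 0 []) (V.getD 0 []) = 48 ∧ dotL (V.getD 1 []) (V.getD 1 []) = 32 ∧
      dotL (V.getD 0 []) (V.getD 1 []) = 16) := by
  decide +kernel

theorem evenHS_equiv : Nonempty (↥EvenHS ≃* ↥Cfsg.Spor.HS) := by
  classical
  have := finite_Co0
  obtain ⟨hlen, hvec, h0, h1, d00, d11, d01⟩ := V_facts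
  set va : ↥leechLattice := vecL (V.getD 0 [])
  set vb : ↥leechLattice := vecL (V.getD 1 [])
  have hVmap : V.map vecL = [va, vb] := by
    match hV : V, hlen with
    | [x, y], _ => simp [va, vb, hV]
  have ha : Cfsg.Spor.leechV = -va := Subtype.ext (funext fun p => by
    show Cfsg.Spor.vecV p = -((va : GolayPt → ℤ) p)
    rw [show (va : GolayPt → ℤ) = vec (V.getD 0 []) from coe_vecL h0, (hvec p).1, neg_neg])
  have hb : Cfsg.Spor.leechU' = vb := Subtype.ext (funext fun p => by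
    show Cfsg.Spor.vecU' p = (vb : GolayPt → ℤ) p
    rw [show (vb : GolayPt → ℤ) = vec (V.getD 1 []) from coe_vecL h1, (hvec p).2])
  set A := fixV (V.map vecL)
  have hA : A.map Co0.subtype = Cfsg.Spor.HS := by
    ext g
    constructor
    · rintro ⟨x, hx, rfl⟩
      have hxa : x • va = va := hx va (by rw [hVmap]; simp)
      have hxb : x • vb = vb := hx vb (by rw [hVmap]; simp)
      refine ⟨⟨x.2, ?_⟩, ?_⟩
      · show x • Cfsg.Spor.leechV = Cfsg.Spor.leechV
        rw [ha, smul_neg', hxa]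
      · show x • Cfsg.Spor.leechU' = Cfsg.Spor.leechU'
        rw [hb, hxb]
    · rintro ⟨⟨hg, h2⟩, h3⟩
      have ga : (⟨g, hg⟩ : ↥Co0) • va = va := by
        have h2' : (⟨g, hg⟩ : ↥Co0) • Cfsg.Spor.leechV = Cfsg.Spor.leechV := h2
        rwa [ha, smul_neg', neg_inj] at h2'
      have gb : (⟨g, hg⟩ : ↥Co0) • vb = vb := by
        have h3' : (⟨g, hg⟩ : ↥Co0) • Cfsg.Spor.leechU' = Cfsg.Spor.leechU' := h3
        rwa [hb] at h3'
      refine ⟨⟨g, hg⟩, fun u hu => ?_, rfl⟩
      rw [hVmap] at hu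
      simp only [List.mem_cons, List.not_mem_nil, or_false] at hu
      rcases hu with rfl | rfl
      exacts [ga, gb]
  have hHS : Nat.card ↥A = 44352000 := by
    show Nat.card ↥(fixV (V.map vecL)) = _
    have ev : sqNorm (va : GolayPt → ℤ) = 48 := by rw [sqNorm_eq_dotInt, dotInt_vecL h0 h0, d00]
    have eb : sqNorm (vb : GolayPt → ℤ) = 32 := by rw [sqNorm_eq_dotInt, dotInt_vecL h1 h1, d11]
    have eab : dotInt (va : GolayPt → ℤ) vb = 16 := by rw [dotInt_vecL h0 h1, d01]
    rw [hVmap, fixV_pair]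
    have hw : sqNorm ((vb - va : ↥leechLattice) : GolayPt → ℤ) = 48 := by
      rw [AddSubgroup.coe_sub, sqNorm_sub, eb, ev, dotInt_comm, eab]; norm_num
    have hvw : dotInt (va : GolayPt → ℤ) (vb - va : ↥leechLattice) = -32 := by
      rw [AddSubgroup.coe_sub, dotInt_sub_right, eab, ← sqNorm_eq_dotInt, ev]; norm_num
    have := natCard_hs ev hw hvw
    rwa [hs_stab_eq, add_sub_cancel] at this
  obtain ⟨hQl, hQ⟩ := q_chk
  rw [Nat.beq_eq] at hQl
  simp only [List.all_eq_true, List.mem_range] at hQ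
  choose hm hv using fun k : Fin Q.length => el_mem (hQ k (k.2.trans_eq hQl.symm))
  have hQ2 : Q.length = 2 := rfl
  let b : Fin 2 → ↥EvenHS := fun k => ⟨_, hm (Fin.cast hQ2.symm k)⟩
  have hb' : Packed EvenHS.subtype b Q := ⟨hQ2, fun k x => hv (Fin.cast hQ2.symm k) x⟩
  have := simple_EvenHS
  obtain ⟨e⟩ := fixV_equiv (N := 44352000) (r := 2) (V := V) (by decide) rfl gens_chk chain_chk hb'
    (generate_of_chain hb' chainM_chk natCard_EvenHS.le) natCard_EvenHS hHS rel_chk
  exact ⟨e.symm.trans ((A.equivMapOfInjective _ Co0.subtype_injective).trans (MulEquiv.subgroupCongr hA))⟩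

end CfsgLib.HSRec
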